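import Groth.Agent.Lib.Helper3.EtaleDeg.Basic

set_option autoImplicit false
set_option linter.unusedSectionVars false
universe u

open CategoryTheory CategoryTheory.Limits AlgebraicGeometry

namespace Groth.Agent.H3.EtaleDeg

/-- **Boundedness of the degree at a point with finite fibre.** -/
theorem exists_notMem_degGE_of_finite_fibre {Y Z : Scheme.{u}} (f : Y ⟶ Z) [LocallyQuasiFinite f]
    (z : Z) (hfin : (f ⁻¹' {z}).Finite) : ∃ N, z ∉ degGE f N := by
  classical
  let F := f.fiber z
  let g : F ⟶ Spec (Z.residueField z) := f.fiberToSpecResidueField z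
  have hFfin : Finite ↥F := by
    have : Finite ↥(f ⁻¹' {z}) := hfin.to_subtype
    exact Finite.of_equiv _ (f.fiberHomeo z).symm.toEquiv
  have hcomp : CompactSpace ↥F := Finite.compactSpace
  have hqc : QuasiCompact g := (quasiCompact_iff_compactSpace g).2 hcomp
  have hlqf : LocallyQuasiFinite g := by
    change LocallyQuasiFinite (pullback.snd f (Z.fromSpecResidueField z))
    infer_instance
  have hart : IsLocallyArtinian (Spec (Z.residueField z)) := by
    rw [Scheme.isLocallyArtinianScheme_Spec]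
    infer_instance
  have hgfin : IsFinite g := IsFinite.of_locallyQuasiFinite g
  have hFaff : IsAffine F := isAffine_of_isAffineHom g
  let E : CommRingCat.{u} := Γ(F, ⊤)
  let i : F ≅ Spec E := F.isoSpec
  let φ : Z.residueField z ⟶ E := Spec.preimage (i.inv ≫ g)
  have hφ : Spec.map φ = i.inv ≫ g := Spec.map_preimage _
  have hφfin : φ.hom.Finite := by
    rw [← IsFinite.SpecMap_iff, hφ]
    infer_instance
  let algE : Algebra (Z.residueField z) E := φ.hom.toAlgebra
  have hmf : Module.Finite (Z.residueField z) E := hφfin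
  refine ⟨Module.finrank (Z.residueField z) E + 1, ?_⟩
  rintro ⟨K, _, zb, w, hz, hw, hinj⟩
  subst hz
  let ζ' : Z.residueField (zb (IsLocalRing.closedPoint K)) ⟶ CommRingCat.of K :=
    Z.descResidueField (Scheme.stalkClosedPointTo zb)
  have hζ : Spec.map ζ' ≫ Z.fromSpecResidueField (zb (IsLocalRing.closedPoint K)) = zb :=
    Scheme.descResidueField_stalkClosedPointTo_fromSpecResidueField K Z zb
  let σ : Fin _ → (Spec (CommRingCat.of K) ⟶ F) := fun k =>
    pullback.lift (w k) (Spec.map ζ') (by rw [hw, hζ])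
  have hσ1 : ∀ k, σ k ≫ f.fiberι _ = w k := fun k => pullback.lift_fst _ _ _
  have hσ2 : ∀ k, σ k ≫ g = Spec.map ζ' := fun k => pullback.lift_snd _ _ _
  let τ : Fin _ → (E ⟶ CommRingCat.of K) := fun k => Spec.preimage (σ k ≫ i.hom)
  have hτ : ∀ k, Spec.map (τ k) = σ k ≫ i.hom := fun k => Spec.map_preimage _
  have hτφ : ∀ k, φ ≫ τ k = ζ' := fun k => by
    apply Spec.map_injective
    rw [Spec.map_comp, hτ, hφ, Category.assoc, Iso.hom_inv_id_assoc, hσ2]
  let algK : Algebra (Z.residueField (zb (IsLocalRing.closedPoint K))) K := ζ'.hom.toAlgebra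
  let a : Fin _ → (E →ₐ[Z.residueField (zb (IsLocalRing.closedPoint K))] K) := fun k =>
    { (τ k).hom with
      commutes' := fun r => by
        have := congrArg (fun ψ => ψ.hom r) (hτφ k)
        exact this }
  have hainj : Function.Injective a := by
    intro k l hkl
    apply hinj
    rw [← hσ1 k, ← hσ1 l]
    congr 1
    rw [← cancel_mono i.hom, ← hτ, ← hτ]
    congr 1
    ext r
    exact congrArg (fun ψ => ψ r) hkl
  have h1 := Nat.card_le_card_of_injective a hainj
  have h2 := card_algHom_le_finrank (Z.residueField (zb (IsLocalRing.closedPoint K))) E K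
  rw [Nat.card_eq_fintype_card, Fintype.card_fin] at h1
  omega

section Limit

open PrimeSpectrum

/-- **The limit argument**: a decreasing sequence of nonempty principal opens of an affine scheme
has a common point. -/
theorem exists_mem_forall_basicOpen {A : Type*} [CommRing A] (g : ℕ → A)
    (hne : ∀ n, (basicOpen (g n) : Set (PrimeSpectrum A)).Nonempty)
    (hanti : ∀ n, basicOpen (g (n + 1)) ≤ basicOpen (g n)) :
    ∃ q : PrimeSpectrum A, ∀ n, q ∈ basicOpen (g n) := by
  have hanti' : Antitone fun n => basicOpen (g n) := antitone_nat_of_succ_le hanti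
  let S : Submonoid A := Submonoid.closure (Set.range g)
  have hS : ∀ x ∈ S, ∃ n, basicOpen (g n) ≤ basicOpen x := by
    intro x hx
    induction hx using Submonoid.closure_induction with
    | mem x hx =>
      obtain ⟨n, rfl⟩ := hx
      exact ⟨n, le_rfl⟩
    | one => exact ⟨0, by rw [basicOpen_one]; exact le_top⟩
    | mul x y _ _ hx hy =>
      obtain ⟨n, hn⟩ := hx
      obtain ⟨m, hm⟩ := hy
      refine ⟨max n m, ?_⟩
      rw [basicOpen_mul]
      exact le_inf ((hanti' (le_max_left n m)).trans hn) ((hanti' (le_max_right n m)).trans hm)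
  have h0 : (0 : A) ∉ S := by
    intro h
    obtain ⟨n, hn⟩ := hS 0 h
    obtain ⟨q, hq⟩ := hne n
    have := hn hq
    rw [basicOpen_zero] at this
    exact this
  have hdisj : Disjoint ((⊥ : Ideal A) : Set A) (S : Set A) := by
    rw [Set.disjoint_left]
    intro x hx hxS
    have : x = 0 := hx
    rw [this] at hxS
    exact h0 hxS
  obtain ⟨P, hP, -, hPS⟩ := Ideal.exists_le_prime_disjoint ⊥ S hdisj
  refine ⟨⟨P, hP⟩, fun n => ?_⟩
  intro hmem
  exact Set.disjoint_left.1 hPS hmem (Submonoid.subset_closure ⟨n, rfl⟩)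

/-- If a decreasing sequence of opens of an affine scheme has empty intersection, then one of the
strata contains a nonempty open. -/
theorem exists_basicOpen_stratum {A : Type*} [CommRing A] [Nontrivial A]
    (U : ℕ → TopologicalSpace.Opens (PrimeSpectrum A)) (hU0 : U 0 = ⊤)
    (hinter : ∀ q : PrimeSpectrum A, ∃ n, q ∉ U n) :
    ∃ (n : ℕ) (g : A), (basicOpen g : Set (PrimeSpectrum A)).Nonempty ∧
      basicOpen g ≤ U n ∧ Disjoint (basicOpen g) (U (n + 1)) := by
  by_contra hcon
  push Not at hcon
  -- the inductive step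
  have step : ∀ (n : ℕ) (x : {g : A // (basicOpen g : Set (PrimeSpectrum A)).Nonempty ∧ basicOpen g ≤ U n}),
      ∃ y : {g : A // (basicOpen g : Set (PrimeSpectrum A)).Nonempty ∧
        basicOpen g ≤ U (n + 1)}, basicOpen y.1 ≤ basicOpen x.1 := by
    rintro n ⟨g, hg1, hg2⟩
    have hnd := hcon n g hg1 hg2
    have hnd' : ∃ q, q ∈ basicOpen g ∧ q ∈ U (n + 1) := by
      by_contra hno
      push Not at hno
      apply hnd
      rw [disjoint_iff, ← TopologicalSpace.Opens.coe_inj]
      ext q
      simp only [TopologicalSpace.Opens.coe_inf, Set.mem_inter_iff, SetLike.mem_coe,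
        TopologicalSpace.Opens.coe_bot, Set.mem_empty_iff_false, iff_false, not_and]
      exact hno q
    obtain ⟨q, hq1, hq2⟩ := hnd'
    have hopen : IsOpen ((basicOpen g ⊓ U (n + 1) : TopologicalSpace.Opens (PrimeSpectrum A)) :
        Set (PrimeSpectrum A)) := (basicOpen g ⊓ U (n + 1)).2
    obtain ⟨_, ⟨_, ⟨h, rfl⟩, rfl⟩, hqh, hsub⟩ :=
      PrimeSpectrum.isBasis_basic_opens.exists_subset_of_mem_open
        (show q ∈ ((basicOpen g ⊓ U (n + 1) : TopologicalSpace.Opens (PrimeSpectrum A)) :
          Set (PrimeSpectrum A)) from ⟨hq1, hq2⟩) hopen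
    exact ⟨⟨h, ⟨q, hqh⟩, fun r hr => (hsub hr).2⟩, fun r hr => (hsub hr).1⟩
  choose nxt hnxt using step
  let σ : (n : ℕ) → {g : A // (basicOpen g : Set (PrimeSpectrum A)).Nonempty ∧ basicOpen g ≤ U n} := fun n =>
    Nat.rec (motive := fun n => {g : A // (basicOpen g : Set (PrimeSpectrum A)).Nonempty ∧ basicOpen g ≤ U n})
      ⟨1, by rw [basicOpen_one]; exact ⟨Classical.arbitrary _, trivial⟩, by rw [hU0]; exact le_top⟩
      (fun n x => nxt n x) n
  obtain ⟨q, hq⟩ := exists_mem_forall_basicOpen (fun n => (σ n).1) (fun n => (σ n).2.1)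
    (fun n => hnxt n (σ n))
  obtain ⟨n, hn⟩ := hinter q
  exact hn ((σ n).2.2 (hq n))

end Limit

end Groth.Agent.H3.EtaleDeg
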