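import Groth.Agent.Lib.Helper3.EtaleDeg.Bound
import Groth.Agent.Lib.Helper5.AlgSp.PointsTop
import Groth.Prelude.Def_AlgSp

set_option autoImplicit false
set_option linter.unusedSectionVars false
universe u

open CategoryTheory CategoryTheory.Limits AlgebraicGeometry
open AlgSp

namespace Groth.Agent.H3.EtaleDeg

open Groth.Agent.H5.AlgSp

section BaseChange

/-- a geometric point of `Z` and a point of `Z'` over the same point of `Z` have a common
refinement -/
lemma exists_common_ext' {Z Z' : Scheme.{u}} (g : Z' ⟶ Z) {K : Type u} [Field K]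
    (zb : Spec (CommRingCat.of K) ⟶ Z) (y : Z')
    (hy : g y = zb (IsLocalRing.closedPoint K)) :
    ∃ (L : Type u) (_ : Field L) (π : Spec (CommRingCat.of L) ⟶ Spec (CommRingCat.of K))
      (yb : Spec (CommRingCat.of L) ⟶ Z'), yb (IsLocalRing.closedPoint L) = y ∧
        yb ≫ g = π ≫ zb := by
  have h1 : zb (IsLocalRing.closedPoint K) =
      (Z'.fromSpecResidueField y ≫ g) (IsLocalRing.closedPoint (Z'.residueField y)) := by
    rw [Scheme.Hom.comp_apply, Scheme.fromSpecResidueField_apply, hy]
  obtain ⟨q, hq1, hq2⟩ := Scheme.Pullback.exists_preimage_pullback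
    (f := zb) (g := Z'.fromSpecResidueField y ≫ g) _ _ h1
  let P := pullback zb (Z'.fromSpecResidueField y ≫ g)
  refine ⟨P.residueField q, inferInstance, P.fromSpecResidueField q ≫ pullback.fst _ _,
    P.fromSpecResidueField q ≫ pullback.snd _ _ ≫ Z'.fromSpecResidueField y, ?_, ?_⟩
  · rw [Scheme.Hom.comp_apply, Scheme.Hom.comp_apply, Scheme.fromSpecResidueField_apply]
  · rw [Category.assoc, Category.assoc, Category.assoc, pullback.condition]

/-- **The degree is stable under base change.** -/
theorem mem_degGE_iff_of_isPullback {Y Z Y' Z' : Scheme.{u}} {f : Y ⟶ Z} {g : Z' ⟶ Z}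
    {g' : Y' ⟶ Y} {f' : Y' ⟶ Z'} (sq : IsPullback g' f' f g) [Etale f] [IsSeparated f]
    (n : ℕ) (z' : Z') : z' ∈ degGE f' n ↔ g z' ∈ degGE f n := by
  constructor
  · rintro ⟨K, _, zb, w, hz, hw, hinj⟩
    refine ⟨K, inferInstance, zb ≫ g, fun k => w k ≫ g', ?_, ?_, ?_⟩
    · rw [Scheme.Hom.comp_apply, hz]
    · intro k
      rw [Category.assoc, sq.w, ← Category.assoc, hw]
    · intro k l hkl
      apply hinj
      apply sq.hom_ext hkl
      rw [hw, hw]
  · rintro ⟨K, _, zb, w, hz, hw, hinj⟩
    obtain ⟨L, _, π, yb, hyb, hcomm⟩ := exists_common_ext' g zb z' hz.symm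
    refine ⟨L, inferInstance, yb, fun k => sq.lift (π ≫ w k) yb (by
      rw [Category.assoc, hw, hcomm]), hyb, fun k => sq.lift_snd _ _ _, ?_⟩
    intro k l hkl
    by_contra hne
    have h1 : π ≫ w k = π ≫ w l := by
      have := congrArg (· ≫ g') hkl
      simpa only [sq.lift_fst] using this
    exact comp_ne_of_ne f π (w k) (w l) (by rw [hw, hw]) (fun h => hne (hinj h)) h1

/-- the degree only depends on the morphism up to isomorphism of the source -/
lemma degGE_comp_iso {Y Y' Z : Scheme.{u}} (e : Y' ⟶ Y) [IsIso e] (f : Y ⟶ Z) (n : ℕ) :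
    degGE (e ≫ f) n = degGE f n := by
  ext z
  constructor
  · rintro ⟨K, _, zb, w, hz, hw, hinj⟩
    refine ⟨K, inferInstance, zb, fun k => w k ≫ e, hz, fun k => by rw [Category.assoc, hw], ?_⟩
    intro k l hkl
    exact hinj ((cancel_mono e).1 hkl)
  · rintro ⟨K, _, zb, w, hz, hw, hinj⟩
    refine ⟨K, inferInstance, zb, fun k => w k ≫ inv e, hz, fun k => by
      rw [Category.assoc, IsIso.inv_hom_id_assoc, hw], ?_⟩
    intro k l hkl
    exact hinj ((cancel_mono (inv e)).1 hkl)

end BaseChange

section KernelPair

variable {S : Scheme.{u}}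

/-- the two base changes of `s` along `s` and along `t` are isomorphic over `R` -/
lemma exists_iso_pullback_snd {X : Sp S} {U R : Over S} (p : (yon S).obj U ⟶ X) (s t : R ⟶ U)
    (sq : IsPullback ((yon S).map t) ((yon S).map s) p p) :
    ∃ ψ : pullback s s ≅ pullback s t, ψ.hom ≫ pullback.snd s t = pullback.snd s s := by
  have h1 : IsPullback (pullback.fst s s) (pullback.snd s s) s s := IsPullback.of_hasPullback s s
  have h2 : IsPullback (pullback.fst s t) (pullback.snd s t) s t := IsPullback.of_hasPullback s t
  have o1 : IsPullback ((yon S).map (pullback.fst s s) ≫ (yon S).map t)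
      ((yon S).map (pullback.snd s s)) p ((yon S).map s ≫ p) :=
    (h1.map (yon S)).paste_horiz sq
  have o2 : IsPullback ((yon S).map (pullback.fst s t) ≫ (yon S).map t)
      ((yon S).map (pullback.snd s t)) p ((yon S).map t ≫ p) :=
    (h2.map (yon S)).paste_horiz sq
  rw [← sq.w] at o1
  let φ := o1.isoIsPullback _ _ o2
  have hφ : φ.hom ≫ (yon S).map (pullback.snd s t) = (yon S).map (pullback.snd s s) :=
    IsPullback.isoIsPullback_hom_snd _ _ o1 o2
  refine ⟨(yon S).preimageIso φ, ?_⟩
  apply (yon S).map_injective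
  rw [Functor.map_comp]
  simp only [Functor.preimageIso_hom, Functor.map_preimage]
  exact hφ

/-- **Invariance of the degree**: the degree of `s` is the same at `s r` and `t r`. -/
theorem degGE_source_iff_target {X : Sp S} {U R : Over S} (p : (yon S).obj U ⟶ X) (s t : R ⟶ U)
    (sq : IsPullback ((yon S).map t) ((yon S).map s) p p) [Etale s.left] [IsSeparated s.left]
    (n : ℕ) (r : ↥R.left) : s.left r ∈ degGE s.left n ↔ t.left r ∈ degGE s.left n := by
  have h1 : IsPullback (pullback.fst s s) (pullback.snd s s) s s := IsPullback.of_hasPullback s s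
  have h2 : IsPullback (pullback.fst s t) (pullback.snd s t) s t := IsPullback.of_hasPullback s t
  have h1' : IsPullback (pullback.fst s s).left (pullback.snd s s).left s.left s.left :=
    h1.map (Over.forget S)
  have h2' : IsPullback (pullback.fst s t).left (pullback.snd s t).left s.left t.left :=
    h2.map (Over.forget S)
  obtain ⟨ψ, hψ⟩ := exists_iso_pullback_snd p s t sq
  have hψl : ψ.hom.left ≫ (pullback.snd s t).left = (pullback.snd s s).left := by
    rw [← Over.comp_left, hψ]
  have : IsIso ψ.hom.left := inferInstanceAs (IsIso ((Over.forget S).map ψ.hom))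
  rw [← mem_degGE_iff_of_isPullback h1' n r, ← mem_degGE_iff_of_isPullback h2' n r, ← hψl,
    degGE_comp_iso]

/-- the degree only depends on the image in `|X|` -/
theorem degGE_iff_of_ofPt_eq {X : Sp S} {U R : Over S} (p : (yon S).obj U ⟶ X) (s t : R ⟶ U)
    (sq : IsPullback ((yon S).map t) ((yon S).map s) p p) [Etale s.left] [IsSeparated s.left]
    (n : ℕ) {u u' : ↥U.left} (h : Points.ofPt p u = Points.ofPt p u') :
    u ∈ degGE s.left n ↔ u' ∈ degGE s.left n := by
  obtain ⟨r, rfl, rfl⟩ := (ofPt_eq_ofPt_iff sq _ _).1 h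
  exact (degGE_source_iff_target p s t sq n r).symm

/-- the source map of the kernel pair of a chart from a separated scheme is separated -/
theorem isSeparated_snd_of_kernelPair {X : Sp S} {U R : Over S} (p : (yon S).obj U ⟶ X)
    (s t : R ⟶ U) (sq : IsPullback ((yon S).map t) ((yon S).map s) p p) [IsSeparated U.hom] :
    IsSeparated s.left := by
  have hs : s.left ≫ U.hom = R.hom := Over.w s
  have ht : t.left ≫ U.hom = R.hom := Over.w t
  let m : R.left ⟶ pullback U.hom U.hom := pullback.lift t.left s.left (by rw [hs, ht])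
  have hm : Mono m := by
    constructor
    intro T a b hab
    have h1 : a ≫ t.left = b ≫ t.left := by
      have := congrArg (· ≫ pullback.fst U.hom U.hom) hab
      simpa only [Category.assoc, m, pullback.lift_fst] using this
    have h2 : a ≫ s.left = b ≫ s.left := by
      have := congrArg (· ≫ pullback.snd U.hom U.hom) hab
      simpa only [Category.assoc, m, pullback.lift_snd] using this
    let T' : Over S := Over.mk (a ≫ R.hom)
    let a' : T' ⟶ R := Over.homMk a rfl
    let b' : T' ⟶ R := Over.homMk b (by
      change b ≫ R.hom = a ≫ R.hom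
      rw [← hs, ← Category.assoc, ← h2, Category.assoc])
    have h3 : (yon S).map a' = (yon S).map b' := by
      apply sq.hom_ext
      · rw [← Functor.map_comp, ← Functor.map_comp]
        congr 1
        ext
        exact h1
      · rw [← Functor.map_comp, ← Functor.map_comp]
        congr 1
        ext
        exact h2
    exact congrArg CommaMorphism.left ((yon S).map_injective h3)
  have h4 : s.left ≫ U.hom = m ≫ pullback.fst U.hom U.hom ≫ U.hom := by
    rw [← Category.assoc, pullback.lift_fst, hs, ht]
  have : IsSeparated (s.left ≫ U.hom) := by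
    rw [h4]
    infer_instance
  exact IsSeparated.of_comp s.left U.hom

end KernelPair

end Groth.Agent.H3.EtaleDeg
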