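import Groth.Agent.Lib.Helper3.EtaleDeg.Fibre
import Groth.Agent.Lib.Helper3.EtaleDeg.KernelPair
import Groth.Agent.Lib.Helper3.EtaleDeg.Bound

/-!
# Étale separated morphisms with finite fibres over Noetherian schemes are quasi-compact (helper3)
-/

set_option autoImplicit false
universe u

open CategoryTheory CategoryTheory.Limits AlgebraicGeometry TopologicalSpace

namespace Groth.Agent.H3.EtaleDeg

lemma quasiCompact_of_isFinite {X Y : Scheme.{u}} (f : X ⟶ Y) (h : IsFinite f) :
    QuasiCompact f := by
  have : IsAffineHom f := inferInstance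
  infer_instance

/-- an étale separated morphism of bounded degree to a Noetherian scheme has quasi-compact source
(stratification by degree) -/
theorem compactSpace_of_degGE_eq_empty : ∀ (N : ℕ) {E V : Scheme.{u}} (f : E ⟶ V) [Etale f]
    [IsSeparated f] [IsLocallyNoetherian V] [CompactSpace ↥V], degGE f N = ∅ → CompactSpace ↥E := by
  intro N
  induction N with
  | zero =>
    intro E V f _ _ _ _ h
    rw [degGE_zero] at h
    have h1 : IsEmpty ↥V := Set.univ_eq_empty_iff.1 h
    have h2 : IsEmpty ↥E := Function.isEmpty f
    infer_instance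
  | succ N ih =>
    intro E V f _ _ _ _ h
    let O : V.Opens := ⟨degGE f N, isOpen_degGE N f⟩
    -- the open stratum
    have hpbO : IsPullback (pullback.fst f O.ι) (pullback.snd f O.ι) f O.ι :=
      IsPullback.of_hasPullback _ _
    have h1 : degGE (pullback.snd f O.ι) N = Set.univ := by
      rw [Set.eq_univ_iff_forall]
      intro z
      rw [mem_degGE_iff_of_isPullback hpbO N z]
      exact z.2
    have h2 : degGE (pullback.snd f O.ι) (N + 1) = ∅ := by
      rw [Set.eq_empty_iff_forall_notMem]
      intro z hz
      rw [mem_degGE_iff_of_isPullback hpbO (N + 1) z, h] at hz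
      exact hz
    have hfin : IsFinite (pullback.snd f O.ι) := isFinite_of_degGE N _ h1 h2
    have hVN : IsNoetherian V := {}
    have hOc : CompactSpace ↥O.toScheme :=
      isCompact_iff_compactSpace.1 (NoetherianSpace.isCompact (O : Set ↥V))
    have hqcO : QuasiCompact (pullback.snd f O.ι) := quasiCompact_of_isFinite _ hfin
    have hEOc : CompactSpace ↥(pullback f O.ι) :=
      @QuasiCompact.compactSpace_of_compactSpace _ _ (pullback.snd f O.ι) hqcO hOc
    -- the closed complement
    let Z : Closeds ↥V := ⟨(O : Set ↥V)ᶜ, O.2.isClosed_compl⟩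
    let I : V.IdealSheafData := Scheme.IdealSheafData.vanishingIdeal Z
    have hrange : Set.range I.subschemeι = (O : Set ↥V)ᶜ := by
      rw [Scheme.IdealSheafData.range_subschemeι, Scheme.IdealSheafData.coe_support_vanishingIdeal]
      rfl
    have hLN : IsLocallyNoetherian I.subscheme := LocallyOfFiniteType.isLocallyNoetherian I.subschemeι
    have hZc : CompactSpace ↥I.subscheme := I.subschemeι.isClosedEmbedding.compactSpace
    have hpbZ : IsPullback (pullback.fst f I.subschemeι) (pullback.snd f I.subschemeι) f
        I.subschemeι := IsPullback.of_hasPullback _ _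
    have h3 : degGE (pullback.snd f I.subschemeι) N = ∅ := by
      rw [Set.eq_empty_iff_forall_notMem]
      intro z hz
      rw [mem_degGE_iff_of_isPullback hpbZ N z] at hz
      have : I.subschemeι z ∈ (O : Set ↥V)ᶜ := by
        rw [← hrange]
        exact ⟨z, rfl⟩
      exact this hz
    have hEZc : CompactSpace ↥(pullback f I.subschemeι) := ih (pullback.snd f I.subschemeι) h3
    -- the two strata cover
    have hcov : (Set.univ : Set ↥E) = Set.range (pullback.fst f O.ι) ∪
        Set.range (pullback.fst f I.subschemeι) := by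
      rw [Scheme.Pullback.range_fst, Scheme.Pullback.range_fst, hrange, Scheme.Opens.range_ι,
        ← Set.preimage_union, Set.union_compl_self, Set.preimage_univ]
    refine ⟨?_⟩
    rw [hcov]
    exact (isCompact_range (pullback.fst f O.ι).continuous).union
      (isCompact_range (pullback.fst f I.subschemeι).continuous)

/-- an étale separated morphism with finite fibres to a Noetherian scheme has bounded degree -/
theorem exists_degGE_eq_empty {E V : Scheme.{u}} (f : E ⟶ V) [Etale f] [IsSeparated f]
    [IsLocallyNoetherian V] [CompactSpace ↥V] (hfib : ∀ v : ↥V, (f ⁻¹' {v}).Finite) :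
    ∃ N, degGE f N = ∅ := by
  classical
  have hVN : IsNoetherian V := {}
  have hlqf : LocallyQuasiFinite f := Groth.Agent.H5.AlgSp.locallyQuasiFinite_of_etale f
  have hfinC : (irreducibleComponents ↥V).Finite := NoetherianSpace.finite_irreducibleComponents
  set G : Set ↥V := {a : ↥V | ∃ T ∈ irreducibleComponents ↥V, IsGenericPoint a T} with hG
  have hGfin : G.Finite := by
    have : G ⊆ (fun a : ↥V => closure ({a} : Set ↥V)) ⁻¹' (irreducibleComponents ↥V) := by
      rintro a ⟨T, hT, ha⟩
      change closure {a} ∈ irreducibleComponents ↥V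
      rw [ha.def]
      exact hT
    refine (hfinC.preimage ?_).subset this
    intro a _ b _ hab
    exact (show IsGenericPoint a (closure {b}) from hab).eq isGenericPoint_closure
  have hN : ∀ ξ ∈ G, ∃ N, ξ ∉ degGE f N := fun ξ _ =>
    exists_notMem_degGE_of_finite_fibre f ξ (hfib ξ)
  choose! Nf hNf using hN
  obtain ⟨N, hNmax⟩ : ∃ N, ∀ ξ ∈ G, Nf ξ ≤ N := by
    obtain ⟨N, hN⟩ := (hGfin.image Nf).bddAbove
    exact ⟨N, fun ξ hξ => hN ⟨ξ, hξ, rfl⟩⟩
  refine ⟨N, ?_⟩
  rw [Set.eq_empty_iff_forall_notMem]
  intro v hv
  obtain ⟨η, hη⟩ := QuasiSober.sober (isIrreducible_irreducibleComponent (x := v))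
    isClosed_irreducibleComponent
  have hηG : η ∈ G := ⟨_, irreducibleComponent_mem_irreducibleComponents v, hη⟩
  have hηv : η ⤳ v := hη.specializes mem_irreducibleComponent
  have hηN : η ∈ degGE f N := hηv.mem_open (isOpen_degGE N f) hv
  exact hNf η hηG (degGE_anti f (hNmax η hηG) hηN)

/-- **An étale separated morphism with finite fibres to a Noetherian scheme has quasi-compact
source.** -/
theorem compactSpace_of_finite_fibres {E V : Scheme.{u}} (f : E ⟶ V) [Etale f] [IsSeparated f]
    [IsLocallyNoetherian V] [CompactSpace ↥V] (hfib : ∀ v : ↥V, (f ⁻¹' {v}).Finite) :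
    CompactSpace ↥E := by
  obtain ⟨N, hN⟩ := exists_degGE_eq_empty f hfib
  exact compactSpace_of_degGE_eq_empty N f hN

end Groth.Agent.H3.EtaleDeg
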