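import Mathlib
import Groth.Agent.Lib.Helper5.Descent.AffineHomDescent

/-!
# Degrees of geometric fibres of étale separated morphisms (helper3)

For an étale separated morphism `f : Y ⟶ Z` of schemes we define the locus `degGE f n` of points
of `Z` over which the geometric fibre has at least `n` points (in terms of field-valued points),
show it is open, and show that `f` is finite as soon as `degGE f n = univ` and
`degGE f (n+1) = ∅`.
-/

set_option autoImplicit false
set_option linter.unusedSectionVars false
universe u

open CategoryTheory CategoryTheory.Limits AlgebraicGeometry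

namespace Groth.Agent.H3.EtaleDeg

variable {Y Z : Scheme.{u}} (f : Y ⟶ Z)

/-- `z` has a geometric point with `n` distinct lifts to `Y`. -/
def HasLifts (n : ℕ) (z : Z) : Prop :=
  ∃ (K : Type u) (_ : Field K) (zb : Spec (CommRingCat.of K) ⟶ Z)
    (w : Fin n → (Spec (CommRingCat.of K) ⟶ Y)),
    zb (IsLocalRing.closedPoint K) = z ∧ (∀ i, w i ≫ f = zb) ∧ Function.Injective w

/-- the locus where the geometric fibres have at least `n` points -/
def degGE (n : ℕ) : Set Z := {z | HasLifts f n z}

section OffDiag

variable [Etale f] [IsSeparated f]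

/-- the complement of the diagonal in `Y ×_Z Y` -/
noncomputable def offDiagOpens : (pullback f f).Opens :=
  ⟨(Set.range (pullback.diagonal f))ᶜ,
    (pullback.diagonal f).isClosedEmbedding.isClosed_range.isOpen_compl⟩

/-- the complement of the diagonal, as a scheme -/
noncomputable abbrev offDiag : Scheme.{u} := (offDiagOpens f).toScheme

/-- the inclusion of the complement of the diagonal -/
noncomputable abbrev offDiagι : offDiag f ⟶ pullback f f := (offDiagOpens f).ι

lemma range_offDiagι : Set.range (offDiagι f) = (Set.range (pullback.diagonal f))ᶜ := by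
  rw [Scheme.Opens.range_ι]
  rfl

/-- the first projection from the complement of the diagonal -/
noncomputable abbrev offDiagFst : offDiag f ⟶ Y := offDiagι f ≫ pullback.fst f f

example : Etale (offDiagFst f) := inferInstance
example : IsSeparated (offDiagFst f) := inferInstance

/-- every point of the spectrum of a field is the closed point -/
lemma eq_closedPoint {K : Type u} [Field K] (x : ↥(Spec (CommRingCat.of K))) :
    x = IsLocalRing.closedPoint K := Subsingleton.elim _ _

/-- **Dichotomy**: two lifts of a geometric point are equal or "disjoint". -/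
lemma eq_or_exists_offDiag {K : Type u} [Field K] (a b : Spec (CommRingCat.of K) ⟶ Y)
    (h : a ≫ f = b ≫ f) :
    a = b ∨ ∃ v : Spec (CommRingCat.of K) ⟶ offDiag f, v ≫ offDiagι f = pullback.lift a b h := by
  set c := pullback.lift a b h with hc
  by_cases hmem : c (IsLocalRing.closedPoint K) ∈ Set.range (pullback.diagonal f)
  · left
    have hsub : Set.range c ⊆ Set.range (pullback.diagonal f) := by
      rintro _ ⟨x, rfl⟩
      rw [eq_closedPoint x]
      exact hmem
    let d := IsOpenImmersion.lift (pullback.diagonal f) c hsub
    have hd : d ≫ pullback.diagonal f = c := IsOpenImmersion.lift_fac _ _ _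
    have h1 : a = d := by
      have := congrArg (· ≫ pullback.fst f f) hd
      simp only [Category.assoc, pullback.diagonal_fst, Category.comp_id] at this
      rw [this, hc, pullback.lift_fst]
    have h2 : b = d := by
      have := congrArg (· ≫ pullback.snd f f) hd
      simp only [Category.assoc, pullback.diagonal_snd, Category.comp_id] at this
      rw [this, hc, pullback.lift_snd]
    rw [h1, h2]
  · right
    have hsub : Set.range c ⊆ Set.range (offDiagι f) := by
      rw [range_offDiagι]
      rintro _ ⟨x, rfl⟩
      rw [eq_closedPoint x]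
      exact hmem
    exact ⟨IsOpenImmersion.lift (offDiagι f) c hsub, IsOpenImmersion.lift_fac _ _ _⟩

/-- a morphism to the complement of the diagonal has distinct components -/
lemma offDiag_fst_ne_snd {K : Type u} [Field K] (v : Spec (CommRingCat.of K) ⟶ offDiag f) :
    v ≫ offDiagι f ≫ pullback.fst f f ≠ v ≫ offDiagι f ≫ pullback.snd f f := by
  intro h
  have h1 : v ≫ offDiagι f = (v ≫ offDiagι f ≫ pullback.fst f f) ≫ pullback.diagonal f := by
    apply pullback.hom_ext
    · simp
    · simp [h]
  have h2 : (v ≫ offDiagι f) (IsLocalRing.closedPoint K) ∈ Set.range (offDiagι f) :=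
    ⟨v (IsLocalRing.closedPoint K), rfl⟩
  rw [range_offDiagι] at h2
  apply h2
  rw [h1]
  exact ⟨_, rfl⟩

/-- the second component of a lift to the complement of the diagonal -/
noncomputable abbrev offDiagSnd : offDiag f ⟶ Y := offDiagι f ≫ pullback.snd f f

lemma offDiagFst_comp : offDiagFst f ≫ f = offDiagSnd f ≫ f := by
  simp only [Category.assoc, pullback.condition]

/-- Points of degree `≥ n + 1` are the images of points of degree `≥ n` of the complement of the
diagonal. -/
lemma degGE_succ (n : ℕ) : degGE f (n + 1) = f '' (degGE (offDiagFst f) n) := by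
  ext z
  constructor
  · rintro ⟨K, _, zb, w, hz, hw, hinj⟩
    have hne : ∀ i : Fin n, w 0 ≠ w i.succ := fun i h => (Fin.succ_ne_zero i) (hinj h).symm
    have hex : ∀ i : Fin n, ∃ v : Spec (CommRingCat.of K) ⟶ offDiag f,
        v ≫ offDiagι f = pullback.lift (w 0) (w i.succ) (by rw [hw, hw]) := fun i =>
      (eq_or_exists_offDiag f _ _ _).resolve_left (hne i)
    choose v hv using hex
    refine ⟨(w 0) (IsLocalRing.closedPoint K), ⟨K, inferInstance, w 0, v, rfl, ?_, ?_⟩, ?_⟩
    · intro i
      rw [← Category.assoc, hv, pullback.lift_fst]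
    · intro i j hij
      have h1 : v i ≫ offDiagSnd f = v j ≫ offDiagSnd f := by rw [hij]
      rw [← Category.assoc, ← Category.assoc, hv, hv, pullback.lift_snd, pullback.lift_snd] at h1
      exact Fin.succ_injective _ (hinj h1)
    · rw [← Scheme.Hom.comp_apply, hw, hz]
  · rintro ⟨y, ⟨K, _, yb, v, hy, hv, hinj⟩, rfl⟩
    refine ⟨K, inferInstance, yb ≫ f, Fin.cons yb (fun i => v i ≫ offDiagSnd f), ?_, ?_, ?_⟩
    · rw [Scheme.Hom.comp_apply, hy]
    · intro i
      refine Fin.cases ?_ (fun j => ?_) i
      · rw [Fin.cons_zero]
      · rw [Fin.cons_succ, Category.assoc, ← offDiagFst_comp, ← Category.assoc, hv]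
    · intro i j
      refine Fin.cases ?_ (fun i' => ?_) i <;> refine Fin.cases ?_ (fun j' => ?_) j
      · intro _; rfl
      · intro h
        rw [Fin.cons_zero, Fin.cons_succ] at h
        exact absurd (by rw [hv j']; exact h) (offDiag_fst_ne_snd f (v j'))
      · intro h
        rw [Fin.cons_zero, Fin.cons_succ] at h
        exact absurd (by rw [hv i']; exact h.symm) (offDiag_fst_ne_snd f (v i'))
      · intro h
        rw [Fin.cons_succ, Fin.cons_succ] at h
        congr 1
        apply hinj
        rw [← cancel_mono (offDiagι f)]
        apply pullback.hom_ext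
        · rw [Category.assoc, Category.assoc]
          exact (hv i').trans (hv j').symm
        · rw [Category.assoc, Category.assoc]
          exact h

end OffDiag

lemma degGE_zero : degGE f 0 = Set.univ := by
  ext z
  simp only [Set.mem_univ, iff_true]
  exact ⟨Z.residueField z, inferInstance, Z.fromSpecResidueField z, Fin.elim0,
    Scheme.fromSpecResidueField_apply _ _, fun i => i.elim0, fun i => i.elim0⟩

/-- `degGE f 1` is the image of `f`. -/
lemma degGE_one : degGE f 1 = Set.range f := by
  ext z
  constructor
  · rintro ⟨K, _, zb, w, hz, hw, -⟩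
    refine ⟨(w 0) (IsLocalRing.closedPoint K), ?_⟩
    rw [← Scheme.Hom.comp_apply, hw, hz]
  · rintro ⟨y, rfl⟩
    refine ⟨Y.residueField y, inferInstance, Y.fromSpecResidueField y ≫ f,
      fun _ => Y.fromSpecResidueField y, ?_, fun _ => rfl, fun i j _ => Subsingleton.elim i j⟩
    rw [Scheme.Hom.comp_apply, Scheme.fromSpecResidueField_apply]

lemma degGE_anti {m n : ℕ} (h : m ≤ n) : degGE f n ⊆ degGE f m := by
  rintro z ⟨K, _, zb, w, hz, hw, hinj⟩
  exact ⟨K, inferInstance, zb, fun i => w (Fin.castLE h i), hz, fun i => hw _,
    fun i j hij => Fin.castLE_injective h (hinj hij)⟩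

section Finite

variable [Etale f] [IsSeparated f]

/-- distinct lifts stay distinct after extending the field -/
lemma comp_ne_of_ne {K L : Type u} [Field K] [Field L]
    (π : Spec (CommRingCat.of L) ⟶ Spec (CommRingCat.of K))
    (a b : Spec (CommRingCat.of K) ⟶ Y) (h : a ≫ f = b ≫ f) (hab : a ≠ b) : π ≫ a ≠ π ≫ b := by
  obtain ⟨v, hv⟩ := (eq_or_exists_offDiag f a b h).resolve_left hab
  have h1 := offDiag_fst_ne_snd f (π ≫ v)
  simp only [Category.assoc] at h1
  rw [← Category.assoc (v), hv, pullback.lift_fst] at h1
  rw [← Category.assoc v (offDiagι f), hv, pullback.lift_snd] at h1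
  exact h1

/-- a geometric point of `Z` and a point of `Y` over the same point of `Z` have a common
refinement -/
lemma exists_common_ext {K : Type u} [Field K] (zb : Spec (CommRingCat.of K) ⟶ Z) (y : Y)
    (hy : f y = zb (IsLocalRing.closedPoint K)) :
    ∃ (L : Type u) (_ : Field L) (π : Spec (CommRingCat.of L) ⟶ Spec (CommRingCat.of K))
      (yb : Spec (CommRingCat.of L) ⟶ Y), yb (IsLocalRing.closedPoint L) = y ∧
        yb ≫ f = π ≫ zb := by
  have h1 : zb (IsLocalRing.closedPoint K) =
      (Y.fromSpecResidueField y ≫ f) (IsLocalRing.closedPoint (Y.residueField y)) := by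
    rw [Scheme.Hom.comp_apply, Scheme.fromSpecResidueField_apply, hy]
  obtain ⟨q, hq1, hq2⟩ := Scheme.Pullback.exists_preimage_pullback
    (f := zb) (g := Y.fromSpecResidueField y ≫ f) _ _ h1
  let P := pullback zb (Y.fromSpecResidueField y ≫ f)
  refine ⟨P.residueField q, inferInstance, P.fromSpecResidueField q ≫ pullback.fst _ _,
    P.fromSpecResidueField q ≫ pullback.snd _ _ ≫ Y.fromSpecResidueField y, ?_, ?_⟩
  · rw [Scheme.Hom.comp_apply, Scheme.Hom.comp_apply, Scheme.fromSpecResidueField_apply]
  · rw [Category.assoc, Category.assoc, Category.assoc, pullback.condition]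

end Finite

/-- **Lower semicontinuity of the degree**: the locus where the geometric fibres of an étale
separated morphism have at least `n` points is open. -/
theorem isOpen_degGE : ∀ (n : ℕ) {Y Z : Scheme.{u}} (f : Y ⟶ Z) [Etale f] [IsSeparated f],
    IsOpen (degGE f n) := by
  intro n
  induction n with
  | zero =>
    intro Y Z f _ _
    rw [degGE_zero]
    exact isOpen_univ
  | succ n ih =>
    intro Y Z f _ _
    rw [degGE_succ]
    exact f.isOpenMap _ (ih (offDiagFst f))

section Finite2

/-- the first projection `Y ×_Z Y ⟶ Y` is finite as soon as its restriction to the complement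
of the diagonal is -/
lemma isFinite_fst_of_offDiag {Y Z : Scheme.{u}} (f : Y ⟶ Z) [Etale f] [IsSeparated f]
    [IsFinite (offDiagFst f)] : IsFinite (pullback.fst f f) := by
  have hcompl : IsCompl (pullback.diagonal f).opensRange (offDiagι f).opensRange := by
    rw [isCompl_iff, disjoint_iff, codisjoint_iff, ← TopologicalSpace.Opens.coe_inj,
      ← TopologicalSpace.Opens.coe_inj]
    simp only [TopologicalSpace.Opens.coe_inf, TopologicalSpace.Opens.coe_sup,
      Scheme.Hom.coe_opensRange, TopologicalSpace.Opens.coe_bot, TopologicalSpace.Opens.coe_top,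
      range_offDiagι]
    exact ⟨Set.inter_compl_self _, Set.union_compl_self _⟩
  obtain ⟨hc⟩ := nonempty_isColimit_binaryCofanMk_of_isCompl (pullback.diagonal f) (offDiagι f)
    hcompl
  let φ : Y ⨿ offDiag f ≅ pullback f f :=
    (colimit.isColimit _).coconePointUniqueUpToIso hc
  have hφ : φ.hom ≫ pullback.fst f f = coprod.desc (𝟙 Y) (offDiagFst f) := by
    apply coprod.hom_ext
    · rw [← Category.assoc]
      have : coprod.inl ≫ φ.hom = pullback.diagonal f :=
        (colimit.isColimit _).comp_coconePointUniqueUpToIso_hom hc ⟨WalkingPair.left⟩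
      rw [this, coprod.inl_desc, pullback.diagonal_fst]
    · rw [← Category.assoc]
      have : coprod.inr ≫ φ.hom = offDiagι f :=
        (colimit.isColimit _).comp_coconePointUniqueUpToIso_hom hc ⟨WalkingPair.right⟩
      rw [this, coprod.inr_desc]
  have h1 : pullback.fst f f = φ.inv ≫ coprod.desc (𝟙 Y) (offDiagFst f) := by
    rw [← hφ, Iso.inv_hom_id_assoc]
  rw [h1]
  infer_instance

/-- **Constant degree implies finite**: an étale separated morphism all of whose geometric
fibres have exactly `n` points is finite. -/
theorem isFinite_of_degGE : ∀ (n : ℕ) {Y Z : Scheme.{u}} (f : Y ⟶ Z) [Etale f] [IsSeparated f],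
    degGE f n = Set.univ → degGE f (n + 1) = ∅ → IsFinite f := by
  intro n
  induction n with
  | zero =>
    intro Y Z f _ _ _ h2
    rw [degGE_one] at h2
    have : IsEmpty ↥Y := ⟨fun y => by
      have : f y ∈ Set.range f := ⟨y, rfl⟩
      rw [h2] at this
      exact this⟩
    infer_instance
  | succ n ih =>
    intro Y Z f _ _ h1 h2
    have hg2 : degGE (offDiagFst f) (n + 1) = ∅ := by
      rw [Set.eq_empty_iff_forall_notMem]
      intro y hy
      have : f y ∈ degGE f (n + 1 + 1) := by
        rw [degGE_succ f (n + 1)]
        exact ⟨y, hy, rfl⟩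
      rw [h2] at this
      exact this
    have hg1 : degGE (offDiagFst f) n = Set.univ := by
      rw [Set.eq_univ_iff_forall]
      intro y
      have hy : f y ∈ degGE f (n + 1) := by rw [h1]; trivial
      obtain ⟨K, _, zb, w, hz, hw, hinj⟩ := hy
      obtain ⟨L, _, π, yb, hyb, hcomm⟩ := exists_common_ext f zb y hz.symm
      let w' : Fin (n + 1) → (Spec (CommRingCat.of L) ⟶ Y) := fun i => π ≫ w i
      have hw' : ∀ i, w' i ≫ f = yb ≫ f := fun i => by
        rw [Category.assoc, hw, hcomm]
      have hinj' : Function.Injective w' := by
        intro i j hij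
        by_contra hne
        exact comp_ne_of_ne f π (w i) (w j) (by rw [hw, hw]) (fun h => hne (hinj h)) hij
      -- `yb` is one of the `w' i`
      have hex : ∃ i₀, w' i₀ = yb := by
        by_contra hno
        push Not at hno
        have : (yb ≫ f) (IsLocalRing.closedPoint L) ∈ degGE f (n + 1 + 1) := by
          refine ⟨L, inferInstance, yb ≫ f, Fin.cons yb w', rfl, ?_, ?_⟩
          · intro i
            refine Fin.cases ?_ (fun j => ?_) i
            · rw [Fin.cons_zero]
            · rw [Fin.cons_succ, hw']
          · intro i j
            refine Fin.cases ?_ (fun i' => ?_) i <;> refine Fin.cases ?_ (fun j' => ?_) j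
            · intro _; rfl
            · intro h
              rw [Fin.cons_zero, Fin.cons_succ] at h
              exact absurd h.symm (hno j')
            · intro h
              rw [Fin.cons_zero, Fin.cons_succ] at h
              exact absurd h (hno i')
            · intro h
              rw [Fin.cons_succ, Fin.cons_succ] at h
              rw [hinj' h]
        rw [h2] at this
        exact this
      obtain ⟨i₀, hi₀⟩ := hex
      have hne : ∀ j : Fin n, yb ≠ w' (i₀.succAbove j) := by
        intro j h
        rw [← hi₀] at h
        exact Fin.succAbove_ne i₀ j (hinj' h).symm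
      have hexv : ∀ j : Fin n, ∃ v : Spec (CommRingCat.of L) ⟶ offDiag f,
          v ≫ offDiagι f = pullback.lift yb (w' (i₀.succAbove j)) (hw' _).symm := fun j =>
        (eq_or_exists_offDiag f _ _ _).resolve_left (hne j)
      choose v hv using hexv
      refine ⟨L, inferInstance, yb, v, hyb, ?_, ?_⟩
      · intro j
        rw [← Category.assoc, hv, pullback.lift_fst]
      · intro j j' hjj
        have h3 : v j ≫ offDiagSnd f = v j' ≫ offDiagSnd f := by rw [hjj]
        rw [← Category.assoc, ← Category.assoc, hv, hv, pullback.lift_snd, pullback.lift_snd] at h3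
        exact Fin.succAbove_right_injective (hinj' h3)
    have hgfin : IsFinite (offDiagFst f) := ih (offDiagFst f) hg1 hg2
    have hfst : IsFinite (pullback.fst f f) := isFinite_fst_of_offDiag f
    have hsurj : Surjective f := by
      constructor
      intro z
      have : z ∈ degGE f 1 := degGE_anti f (Nat.le_add_left 1 n) (by rw [h1]; trivial)
      rw [degGE_one] at this
      exact this
    exact MorphismProperty.of_pullback_fst_of_descendsAlong (P := @IsFinite)
      (Q := @Surjective ⊓ @Flat ⊓ @LocallyOfFinitePresentation) (f := f) (g := f)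
      ⟨⟨hsurj, inferInstance⟩, inferInstance⟩ hfst

end Finite2

end Groth.Agent.H3.EtaleDeg
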