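import Mathlib
import Groth.Agent.Lib.Helper3.EtaleDeg.Basic

/-!
# Quasi-compactness of the degree strata (helper3)
-/

set_option autoImplicit false
set_option linter.unusedSectionVars false
universe u

open CategoryTheory CategoryTheory.Limits AlgebraicGeometry

namespace Groth.Agent.H3.EtaleDeg

/-- the inclusion of the complement of the diagonal of an étale separated morphism is a closed
immersion -/
instance isClosedImmersion_offDiagι {Y Z : Scheme.{u}} (f : Y ⟶ Z) [Etale f] [IsSeparated f] :
    IsClosedImmersion (offDiagι f) := by
  apply IsClosedImmersion.of_isPreimmersion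
  rw [range_offDiagι]
  have : IsOpenImmersion (pullback.diagonal f) := inferInstance
  exact (pullback.diagonal f).isOpenEmbedding.isOpen_range.isClosed_compl

/-- **The degree strata of a quasi-compact étale separated morphism to a quasi-compact scheme are
quasi-compact.** -/
theorem isCompact_degGE : ∀ (n : ℕ) {Y Z : Scheme.{u}} (f : Y ⟶ Z) [Etale f] [IsSeparated f]
    [QuasiCompact f] [CompactSpace Z], IsCompact (degGE f n) := by
  intro n
  induction n with
  | zero =>
    intro Y Z f _ _ _ _
    rw [degGE_zero]
    exact isCompact_univ
  | succ n ih =>
    intro Y Z f _ _ _ _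
    rw [degGE_succ]
    have : CompactSpace Y := QuasiCompact.compactSpace_of_compactSpace f
    exact (ih (offDiagFst f)).image f.continuous

end Groth.Agent.H3.EtaleDeg
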