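import Mathlib
import Groth.Agent.Lib.Helper3.EtaleDeg.KernelPair

/-!
# Degree bounds give finite fibres (helper3)
-/

set_option autoImplicit false
set_option linter.unusedSectionVars false
universe u

open CategoryTheory CategoryTheory.Limits AlgebraicGeometry

namespace Groth.Agent.H3.EtaleDeg

variable {Y Z : Scheme.{u}} (f : Y ⟶ Z)

/-- finitely many points of a fibre can be lifted to points with values in a common field -/
lemma exists_common_lifts (z : Z) : ∀ (n : ℕ) (y : Fin n → Y), (∀ i, f (y i) = z) →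
    ∃ (K : Type u) (_ : Field K) (zb : Spec (CommRingCat.of K) ⟶ Z)
      (w : Fin n → (Spec (CommRingCat.of K) ⟶ Y)),
      zb (IsLocalRing.closedPoint K) = z ∧ (∀ i, w i ≫ f = zb) ∧
        ∀ i, (w i) (IsLocalRing.closedPoint K) = y i := by
  intro n
  induction n with
  | zero =>
    intro y _
    exact ⟨Z.residueField z, inferInstance, Z.fromSpecResidueField z, Fin.elim0,
      Scheme.fromSpecResidueField_apply _ _, fun i => i.elim0, fun i => i.elim0⟩
  | succ n ih =>
    intro y hy
    obtain ⟨K, _, zb, w, hz, hw, hwy⟩ := ih (fun i => y i.succ) (fun i => hy i.succ)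
    obtain ⟨L, _, π, yb, hyb, hcomm⟩ := exists_common_ext' f zb (y 0) ((hy 0).trans hz.symm)
    have hπ : π (IsLocalRing.closedPoint L) = IsLocalRing.closedPoint K :=
      Subsingleton.elim (α := PrimeSpectrum K) _ _
    refine ⟨L, inferInstance, π ≫ zb, Fin.cons yb (fun i => π ≫ w i), ?_, ?_, ?_⟩
    · rw [Scheme.Hom.comp_apply, hπ, hz]
    · intro i
      refine Fin.cases ?_ (fun j => ?_) i
      · rw [Fin.cons_zero, hcomm]
      · rw [Fin.cons_succ, Category.assoc, hw]
    · intro i
      refine Fin.cases ?_ (fun j => ?_) i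
      · rw [Fin.cons_zero, hyb]
      · rw [Fin.cons_succ, Scheme.Hom.comp_apply, hπ, hwy]

/-- a point with `n` distinct points in its fibre has degree at least `n` -/
lemma mem_degGE_of_injective (z : Z) (n : ℕ) (y : Fin n → Y) (hy : ∀ i, f (y i) = z)
    (hinj : Function.Injective y) : z ∈ degGE f n := by
  obtain ⟨K, _, zb, w, hz, hw, hwy⟩ := exists_common_lifts f z n y hy
  refine ⟨K, inferInstance, zb, w, hz, hw, fun i j hij => hinj ?_⟩
  rw [← hwy i, ← hwy j, hij]

/-- **A point outside `degGE f n` has a finite fibre.** -/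
theorem finite_fibre_of_notMem_degGE (z : Z) (n : ℕ) (hz : z ∉ degGE f n) :
    (f ⁻¹' {z}).Finite := by
  by_contra hinf
  have hinf' : (f ⁻¹' {z}).Infinite := hinf
  obtain ⟨t, ht, hcard⟩ := hinf'.exists_subset_card_eq n
  let ε : Fin n ≃ ↥t := (Fintype.equivFinOfCardEq (by rw [Fintype.card_coe, hcard])).symm
  apply hz
  refine mem_degGE_of_injective f z n (fun i => (ε i : Y)) (fun i => ?_) ?_
  · exact ht (ε i).2
  · intro i j hij
    exact ε.injective (Subtype.ext hij)

end Groth.Agent.H3.EtaleDeg
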